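import Cfsg.Agent.S5660

set_option autoImplicit false
open Cfsg

/-!
Symplectic type subfield groups in `SU_n(q)`, `n ≥ 6`.
-/

namespace Cfsg.Agent.SmallDim.UniSymp

open Matrix
open scoped MatrixGroups
open Cfsg.Geo Cfsg.Agent.GeoMax Cfsg.Agent.GeoMax.Symp Cfsg.Agent.GeoMax.Un Cfsg.Agent.S5660

set_option linter.unusedSectionVars false
variable {F : Type*} [Field F] [Fintype F] {n q : ℕ} {F₀ : Subfield F} {P : GL (Fin n) F} {ζ : F}

variable (hF : Fintype.card F = q ^ 2) (hcard : Fintype.card F = Nat.card F₀ ^ 2) (hζ0 : ζ ≠ 0) (hζ : ζ + ζ ^ q = 0)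
  (hP : IsFormRationalStructure (Cfsg.hermForm n F q) F₀ ζ P)
  (halt : ∀ u : Fin n → F, (∀ i, u i ∈ F₀) → Cfsg.hermForm n F q (Matrix.mulVec (P : Matrix (Fin n) (Fin n) F) u)
    (Matrix.mulVec (P : Matrix (Fin n) (Fin n) F) u) = 0)

include hF hcard hζ0 hζ hP halt in
theorem maximal6 (hn : 6 ≤ n) : IsMaximalIn (Cfsg.GU n F q ⊓ specialLinear (Fin n) F)
    (subfieldSubgroup F₀ P ⊓ (Cfsg.GU n F q ⊓ specialLinear (Fin n) F)) := by
  have hf := ff_symp hF hcard hζ0 hζ hP halt
  obtain ⟨θ, hθq⟩ := Uni.exists_pow_q_ne hF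
  have hθ : θ ∉ F₀ := fun h => hθq (pow_q_of_mem hF hcard h)
  have hUT := UT_E hF hcard hζ0 hζ hP halt
  have hζ' : ζ ^ q = -ζ := by linear_combination hζ
  -- the hermitian form on `a + θ b`
  have hherm : ∀ a b : Fin n → F₀, Cfsg.hermForm n F q (E F₀ P a + θ • E F₀ P b) (E F₀ P a + θ • E F₀ P b) =
      (θ ^ q - θ) * Cfsg.hermForm n F q (E F₀ P a) (E F₀ P b) := by
    intro a b
    rw [Uni.hermForm_add_left, Uni.hermForm_add_right hF, Uni.hermForm_add_right hF, Uni.hermForm_smul_left,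
      Uni.hermForm_smul_left, Uni.hermForm_smul_right, Uni.hermForm_smul_right, herm_self halt, herm_self halt,
      herm_skew hF hcard hζ0 hζ hP a b]
    ring
  have hiso : ∀ a b : Fin n → F₀, Cfsg.hermForm n F q (E F₀ P a + θ • E F₀ P b) (E F₀ P a + θ • E F₀ P b) = 0 ↔
      ff P hP a b = 0 := by
    intro a b
    rw [hherm, mul_eq_zero, or_iff_right (sub_ne_zero.2 hθq)]
    constructor
    · intro h; apply Subtype.ext; rw [ff_coe, h, mul_zero]; rfl
    · intro h
      have := congrArg (fun c : F₀ => (c : F)) h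
      simp only [ff_coe] at this
      exact (mul_eq_zero.1 this).resolve_left hζ0
  -- dependent pairs
  have hdep : ∀ a b : Fin n → F₀, (a = 0 ∨ b ∈ Submodule.span F₀ {a}) →
      ∃ (l : F) (w : Fin n → F₀), E F₀ P a + θ • E F₀ P b = l • E F₀ P w := by
    rintro a b (rfl | h)
    · exact ⟨θ, b, by rw [(E_eq_zero (P := P)).2 rfl, zero_add]⟩
    · obtain ⟨c, rfl⟩ := Submodule.mem_span_singleton.1 h
      exact ⟨1 + θ * c, a, by rw [E_smul]; module⟩
  -- the key step
  have key : ∀ M : Subgroup (GL (Fin n) F), subfieldSubgroup F₀ P ⊓ (Cfsg.GU n F q ⊓ specialLinear (Fin n) F) ≤ M →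
      M ≤ Cfsg.GU n F q ⊓ specialLinear (Fin n) F →
      ∀ a b : Fin n → F₀, a ≠ 0 → b ∉ Submodule.span F₀ {a} → ff P hP a b = 0 →
        UT q M (E F₀ P a + θ • E F₀ P b) → Cfsg.GU n F q ⊓ specialLinear (Fin n) F ≤ M := by
    intro M hHM hMI a b ha hb hab hPr
    have hUTM : ∀ v : Fin n → F₀, UT q M (E F₀ P v) := fun v c hc => (hUT v c hc).mono hHM
    refine su_le hF (by omega) M fun v hv => ?_
    obtain ⟨a', b', rfl⟩ := exists_E (P := P) hcard hθ v
    by_cases hd : a' = 0 ∨ b' ∈ Submodule.span F₀ {a'}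
    · obtain ⟨l, w, h⟩ := hdep a' b' hd
      rw [h]; exact (hUTM w).smul hF l
    push Not at hd
    rw [hiso] at hv
    refine pair_induction hf (by simp; omega) (P := fun a b => UT q M (E F₀ P a + θ • E F₀ P b)) ?_ ha hb hab hPr
      hd.1 hd.2 hv
    intro x y z t hxy
    obtain ⟨hz0, hz⟩ := (hasT_iff _ _ _).1 (hUTM z (t * ζ) (by rw [mul_pow, hζ', pow_q_of_mem hF hcard t.2]; ring))
    have h1 := hxy.conj (hMI hz).1 hz
    have h2 : ∀ w : Fin n → F₀, (tvec (E F₀ P z) (((t : F) * ζ) • cv q (E F₀ P z)) hz0 : Matrix (Fin n) (Fin n) F) *ᵥ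
        E F₀ P w = E F₀ P ((tr hf z t : Matrix (Fin n) (Fin n) F₀) *ᵥ w) := by
      intro w
      rw [tvec_mulVec, smul_dotProduct, cv_dotProduct, tr_mulVec, E_add, E_smul]
      congr 2
      push_cast
      rw [ff_coe, smul_eq_mul]; ring
    rw [Matrix.mulVec_add, Matrix.mulVec_smul, h2, h2] at h1
    exact h1
  constructor
  · refine lt_of_le_of_ne inf_le_right ?_
    intro heq
    -- an isotropic vector off the structure
    obtain ⟨a, ha, -⟩ := exists_perp_notMem hf [] [] (by simp; omega)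
    have ha0 : a ≠ 0 := by rintro rfl; exact ha (Submodule.zero_mem _)
    obtain ⟨b, hb, hab⟩ := exists_perp_notMem hf [a] [a] (by simp; omega)
    have hb' : b ∉ Submodule.span F₀ {a} := by simpa using hb
    have hab' : ff P hP a b = 0 := by
      have := hab a (by simp)
      rw [Symp.skew hf, this, neg_zero]
    -- the transvection with centre `a + θ b`
    set u := E F₀ P a + θ • E F₀ P b with hu
    have huu : Cfsg.hermForm n F q u u = 0 := (hiso a b).2 hab'
    have hu0 : (ζ • cv q u) ⬝ᵥ u = 0 := by rw [smul_dotProduct, cv_dotProduct, huu, smul_zero]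
    have hmem := tvec_mem hF hu0 hζ'
    rw [← heq] at hmem
    obtain ⟨l, hl, h⟩ := mem_sub_iff.1 hmem.1
    -- a rational vector `y` with `f a y = 0`, `f b y = 1`: then `τ y = y + c θ (..) u`
    obtain ⟨y, hy, hby⟩ := exists_perp_ne hf hb'
    have hay := hy a (Submodule.mem_span_singleton_self a)
    have hyu : Cfsg.hermForm n F q (E F₀ P y) u ≠ 0 := by
      rw [hu, Uni.hermForm_add_right hF, Uni.hermForm_smul_right]
      have h1 : Cfsg.hermForm n F q (E F₀ P y) (E F₀ P a) = 0 := by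
        have := congrArg (fun c : F₀ => (c : F)) hay
        simp only [ff_coe] at this
        rw [herm_skew hF hcard hζ0 hζ hP a y, (mul_eq_zero.1 this).resolve_left hζ0, neg_zero]
      have h2 : Cfsg.hermForm n F q (E F₀ P y) (E F₀ P b) ≠ 0 := by
        intro h0
        apply hby
        apply Subtype.ext
        rw [ff_coe, herm_skew hF hcard hζ0 hζ hP y b, h0]; simp
      rw [h1, zero_add]
      refine mul_ne_zero (pow_ne_zero _ ?_) h2
      rintro rfl
      exact hθ F₀.zero_mem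
    -- a vector orthogonal to `a`, `b`, `y`
    obtain ⟨z, hz, hzp⟩ := exists_perp_notMem hf [a, b] [] (by simp; omega)
    have hz0 : z ≠ 0 := by rintro rfl; exact hz (Submodule.zero_mem _)
    have hherm0 : ∀ w, ff P hP z w = 0 → Cfsg.hermForm n F q (E F₀ P z) (E F₀ P w) = 0 := by
      intro w hw
      have := congrArg (fun c : F₀ => (c : F)) hw
      simp only [ff_coe] at this
      exact (mul_eq_zero.1 this).resolve_left hζ0
    have hzu : Cfsg.hermForm n F q (E F₀ P z) u = 0 := by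
      rw [hu, Uni.hermForm_add_right hF, Uni.hermForm_smul_right, hherm0 a (hzp a (by simp)),
        hherm0 b (hzp b (by simp))]; ring
    obtain ⟨z₁, hz₁⟩ := h z
    rw [tvec_mulVec, smul_dotProduct, cv_dotProduct, hzu, smul_zero, zero_smul, add_zero] at hz₁
    -- `l ∈ F₀`
    have hlF : l ∈ F₀ := by
      obtain ⟨i, hi⟩ := Function.ne_iff.1 hz0
      have h1 : emb F₀ z = l • emb F₀ z₁ := by
        apply gl_mulVec_injective P
        change (P : Matrix (Fin n) (Fin n) F) *ᵥ emb F₀ z = (P : Matrix (Fin n) (Fin n) F) *ᵥ (l • emb F₀ z₁)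
        rw [Matrix.mulVec_smul]; exact hz₁
      have h2 := congrFun h1 i
      simp only [emb_apply, Pi.smul_apply, smul_eq_mul] at h2
      have h3 : (z₁ i : F) ≠ 0 := by
        intro h0
        rw [h0, mul_zero] at h2
        apply hi
        rw [Pi.zero_apply]
        exact Subtype.ext h2
      have h4 : l = ((z i / z₁ i : F₀) : F) := by
        push_cast; rw [eq_div_iff h3, ← h2]
      rw [h4]; exact SetLike.coe_mem _
    obtain ⟨y₁, hy₁⟩ := h y
    rw [tvec_mulVec, smul_dotProduct, cv_dotProduct] at hy₁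
    set κ := ζ • Cfsg.hermForm n F q (E F₀ P y) u with hκ
    have hκ0 : κ ≠ 0 := by rw [hκ, smul_eq_mul]; exact mul_ne_zero hζ0 hyu
    -- so `κ • u` is rational
    have h5 : κ • u = E F₀ P ((⟨l, hlF⟩ : F₀) • y₁ - y) := by
      have e : E F₀ P ((⟨l, hlF⟩ : F₀) • y₁ - y) = l • E F₀ P y₁ - E F₀ P y := by
        rw [sub_eq_add_neg, E_add, E_smul]
        have : E F₀ P (-y) = - E F₀ P y := by rw [E, emb_neg, Matrix.mulVec_neg]; rfl
        rw [this, ← sub_eq_add_neg]
      rw [e, ← hy₁]; abel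
    -- contradiction with the independence of `a`, `b`
    set w := (⟨l, hlF⟩ : F₀) • y₁ - y with hw
    obtain ⟨c, d, hcd⟩ := exists_coord hcard hθ κ⁻¹
    have h6 : u = (c : F) • E F₀ P w + (θ * d) • E F₀ P w := by
      rw [← add_smul, ← hcd, ← h5, smul_smul, inv_mul_cancel₀ hκ0, one_smul]
    have h7 : E F₀ P (a - c • w) + θ • E F₀ P (b - d • w) = 0 := by
      have e1 : ∀ (x : Fin n → F₀) (t : F₀), E F₀ P (x - t • w) = E F₀ P x - (t : F) • E F₀ P w := by
        intro x t
        have : E F₀ P (-(t • w)) = - ((t : F) • E F₀ P w) := by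
          rw [← E_smul, E, emb_neg, Matrix.mulVec_neg]; rfl
        rw [sub_eq_add_neg, E_add, this, ← sub_eq_add_neg]
      rw [e1, e1]
      have : E F₀ P a - (c : F) • E F₀ P w + θ • (E F₀ P b - (d : F) • E F₀ P w) = u - ((c : F) • E F₀ P w + (θ * d) • E F₀ P w) := by
        rw [hu]; module
      rw [this, ← h6, sub_self]
    have h8 : ∀ x y : Fin n → F₀, E F₀ P x + θ • E F₀ P y = 0 → x = 0 ∧ y = 0 := by
      intro x y h
      have h1 : emb F₀ x + θ • emb F₀ y = 0 := by
        apply gl_mulVec_injective P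
        change (P : Matrix (Fin n) (Fin n) F) *ᵥ (emb F₀ x + θ • emb F₀ y) = (P : Matrix (Fin n) (Fin n) F) *ᵥ 0
        rw [Matrix.mulVec_add, Matrix.mulVec_smul, Matrix.mulVec_zero]; exact h
      have h2 : y = 0 := by
        by_contra hy0
        obtain ⟨i, hi⟩ := Function.ne_iff.1 hy0
        have h3 := congrFun h1 i
        simp only [emb_apply, Pi.add_apply, Pi.smul_apply, smul_eq_mul, Pi.zero_apply] at h3
        have h4 : (y i : F) ≠ 0 := by
          intro h0; exact hi (Subtype.ext h0)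
        apply hθ
        have : θ = ((-(x i) / y i : F₀) : F) := by
          push_cast; rw [eq_div_iff h4]; linear_combination h3
        rw [this]; exact SetLike.coe_mem _
      refine ⟨?_, h2⟩
      rw [h2, emb_zero, smul_zero, add_zero] at h1
      exact emb_eq_zero.1 h1
    obtain ⟨h9, h10⟩ := h8 _ _ h7
    rw [sub_eq_zero] at h9 h10
    have hc0 : c ≠ 0 := by
      rintro rfl; rw [zero_smul] at h9; exact ha0 h9
    apply hb'
    rw [Submodule.mem_span_singleton]
    exact ⟨d * c⁻¹, by rw [h9, smul_smul, mul_assoc, inv_mul_cancel₀ hc0, mul_one, h10]⟩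
  · intro M hHM hMI
    by_cases hcase : ∀ g ∈ M, ∀ x : Fin n → F₀, ∃ l : F, ∃ x₁ : Fin n → F₀,
        (g : Matrix (Fin n) (Fin n) F) *ᵥ E F₀ P x = l • E F₀ P x₁
    · left
      refine le_antisymm (fun g hg => ?_) hHM
      refine Subgroup.mem_inf.2 ⟨?_, hMI hg⟩
      rw [mem_sub_iff]
      -- the multipliers agree
      obtain ⟨y₀, hy₀, -⟩ := exists_perp_notMem hf [] [] (by simp; omega)
      have hy₀0 : y₀ ≠ 0 := by rintro rfl; exact hy₀ (Submodule.zero_mem _)
      have hne : ∀ x : Fin n → F₀, x ≠ 0 → ∀ (l : F) (x₁ : Fin n → F₀),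
          (g : Matrix (Fin n) (Fin n) F) *ᵥ E F₀ P x = l • E F₀ P x₁ → l ≠ 0 := by
        rintro x hx l x₁ h rfl
        rw [zero_smul] at h
        apply hx
        rw [← E_eq_zero (P := P)]
        exact gl_mulVec_injective g (by simpa using h)
      obtain ⟨l₀, y₀', hy₀'⟩ := hcase g hg y₀
      have hl₀ := hne y₀ hy₀0 l₀ y₀' hy₀'
      refine ⟨l₀, hl₀, fun y => ?_⟩
      by_cases hy : y = 0
      · refine ⟨0, ?_⟩
        rw [hy, (E_eq_zero (P := P)).2 rfl, Matrix.mulVec_zero, smul_zero]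
      obtain ⟨l, y', hy'⟩ := hcase g hg y
      obtain ⟨z, hz1, hz2⟩ := exists_common hf hy hy₀0
      obtain ⟨μ, z', hz'⟩ := hcase g hg z
      have hz0 : z ≠ 0 := by rintro rfl; exact hz1 (Symp.zero_right hf _)
      have hμ := hne z hz0 μ z' hz'
      have kk : ∀ (a a' : Fin n → F₀) (k : F), (g : Matrix (Fin n) (Fin n) F) *ᵥ E F₀ P a = k • E F₀ P a' →
          ff P hP a z ≠ 0 → k * μ ^ q ∈ F₀ := by
        intro a a' k hk hne'
        have h1 := mem_GU.1 (hMI hg).1 (E F₀ P a) (E F₀ P z)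
        rw [hk, hz', Uni.hermForm_smul_left, Uni.hermForm_smul_right] at h1
        have h2 : (ff P hP a z : F) = k * μ ^ q * ff P hP a' z' := by
          rw [ff_coe, ff_coe, ← h1]; ring
        have h3 : (ff P hP a' z' : F) ≠ 0 := by
          intro h0
          rw [h0, mul_zero] at h2
          exact hne' (Subtype.ext h2)
        have h4 : k * μ ^ q = ((ff P hP a z / ff P hP a' z' : F₀) : F) := by
          push_cast; rw [eq_div_iff h3, ← h2]
        rw [h4]; exact SetLike.coe_mem _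
      have k1 := kk y y' l hy' hz1
      have k2 := kk y₀ y₀' l₀ hy₀' hz2
      have h3 : l / l₀ ∈ F₀ := by
        have := F₀.div_mem k1 k2
        rwa [mul_div_mul_right _ _ (pow_ne_zero _ hμ)] at this
      refine ⟨(⟨l / l₀, h3⟩ : F₀) • y', ?_⟩
      rw [hy', E_smul, smul_smul]
      congr 1
      field_simp
    · right
      push Not at hcase
      obtain ⟨g, hg, x, hx⟩ := hcase
      refine le_antisymm hMI ?_
      obtain ⟨a, b, hab⟩ := exists_E (P := P) hcard hθ ((g : Matrix (Fin n) (Fin n) F) *ᵥ E F₀ P x)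
      have hd : ¬ (a = 0 ∨ b ∈ Submodule.span F₀ {a}) := by
        intro hd
        obtain ⟨l, w, h⟩ := hdep a b hd
        exact hx l w (by rw [hab, h])
      push Not at hd
      have hiso' : Cfsg.hermForm n F q (E F₀ P a + θ • E F₀ P b) (E F₀ P a + θ • E F₀ P b) = 0 := by
        rw [← hab, mem_GU.1 (hMI hg).1, herm_self halt]
      refine key M hHM hMI a b hd.1 hd.2 ((hiso a b).1 hiso') ?_
      rw [← hab]
      exact UT.conj (fun c hc => (hUT x c hc).mono hHM) (hMI hg).1 hg

end Cfsg.Agent.SmallDim.UniSymp
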