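import Cfsg.Agent.SmallDim.SpExt8

set_option autoImplicit false
set_option linter.unusedSectionVars false
set_option linter.style.haveILetI false
set_option linter.unusedSimpArgs false

/-!
The extension field subgroup `SL₂(8).3` of `Sp₆(2)`: matrix form.
-/

namespace Cfsg.Agent.SmallDim.SpExt8

open Module Cfsg.Agent.H98.Ext Cfsg.Agent.H98.Sp

section matrix

open Cfsg.Geo Cfsg.Agent.GeoMax Cfsg.Agent.AschCases Matrix 
open scoped MatrixGroups

variable {ι : Type} [Fintype ι] [DecidableEq ι] {F : Type*} [Field F]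

theorem sp_alg8 {K : Type*} [Field K] [Algebra F K] [Finite F] (φ : K →ₐ[F] Matrix ι ι F)
    {f : (ι → F) → (ι → F) → F} (hf : IsSymplecticForm f)
    (hsa : ∀ (k : K) v w, f (φ k *ᵥ v) w = f v (φ k *ᵥ w)) (halt : ∀ (k : K) v, f (φ k *ᵥ v) v = 0)
    (hr : (finrank F K).Prime) {d : ℕ} (hd : finrank F K * d = Fintype.card ι)
    (hc : Nat.card F = 2 ∧ finrank F K = 3 ∧ d = 2) :
    (∀ M : Subgroup (GL ι F), M ≤ isoGL f →
      (∀ g ∈ isoGL f, (∀ k : K, ∃ k' : K, (g : Matrix ι ι F) * φ k = φ k' * (g : Matrix ι ι F)) → g ∈ M) →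
      (∀ g ∈ M, ∀ k : K, ∃ k' : K, (g : Matrix ι ι F) * φ k = φ k' * (g : Matrix ι ι F)) ∨ isoGL f ≤ M) ∧
    ∃ g ∈ isoGL f, ¬ ∀ k : K, ∃ k' : K, (g : Matrix ι ι F) * φ k = φ k' * (g : Matrix ι ι F) := by
  classical
  letI : Module K (ι → F) := Module.compHom (ι → F)
    (((Matrix.toLinAlgEquiv' : Matrix ι ι F ≃ₐ[F] _).toAlgHom.comp φ : K →ₐ[F] _) : K →+* Module.End F (ι → F))
  have hsm : ∀ (k : K) (v : ι → F), k • v = φ k *ᵥ v := fun k v => rfl
  have htower : IsScalarTower F K (ι → F) := by
    refine ⟨fun c k v => ?_⟩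
    rw [hsm, hsm, map_smul, Matrix.smul_mulVec]
  have : FiniteDimensional F K := FiniteDimensional.of_finrank_pos hr.pos
  have hfinK : Finite K := Module.finite_of_finite F
  have hdim := Module.finrank_mul_finrank F K (ι → F)
  rw [Module.finrank_fintype_fun_eq_card, ← hd] at hdim
  have hdK : finrank K (ι → F) = d := Nat.eq_of_mul_eq_mul_left hr.pos hdim
  have hsemi : ∀ g : GL ι F, (∀ k : K, ∃ k' : K, (g : Matrix ι ι F) * φ k = φ k' * (g : Matrix ι ι F)) ↔
      Semi K (mx.symm g) := by
    intro g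
    constructor
    · intro hg k
      obtain ⟨k', hk'⟩ := hg k
      refine ⟨k', fun v => ?_⟩
      rw [mx_symm_apply, mx_symm_apply, hsm, hsm, Matrix.mulVec_mulVec, Matrix.mulVec_mulVec, hk']
    · intro hg k
      obtain ⟨k', hk'⟩ := hg k
      refine ⟨k', ?_⟩
      apply Matrix.toLin'.injective
      apply LinearMap.ext
      intro v
      have := hk' v
      rw [mx_symm_apply, mx_symm_apply, hsm, hsm, Matrix.mulVec_mulVec, Matrix.mulVec_mulVec] at this
      exact this
  let f' : (ι → F) →ₗ[F] (ι → F) →ₗ[F] F := LinearMap.mk₂ F f hf.bilinear.add_left hf.bilinear.smul_left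
    hf.bilinear.add_right hf.bilinear.smul_right
  obtain ⟨B, hB⟩ := exists_sy (K := K) f' (fun k v w => hsa k v w) (fun k v => halt k v)
    (fun v hv => Symp.eq_zero_of_forall hf hv)
  have hB' : ∀ v w, tf F B v w = f v w := hB
  have hiso : ∀ g : GL ι F, g ∈ isoGL f ↔ mx.symm g ∈ iso F B := by
    intro g
    rw [mem_isoGL, mem_iso]
    constructor
    · intro h v w
      rw [hB', hB']
      exact h v w
    · intro h v w
      have := h v w
      rw [hB', hB'] at this
      exact this
  have hntV : Nontrivial (ι → F) := by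
    apply Module.nontrivial_of_finrank_pos (R := K)
    rw [hdK, hc.2.2]
    norm_num
  constructor
  · intro M hM1 hM2
    have hy : HypS B (M.comap (mx : ((ι → F) ≃ₗ[F] (ι → F)) ≃* GL ι F).toMonoidHom) := by
      constructor
      · intro g hg
        have h1 := (hiso (mx g)).1 (hM1 hg)
        rwa [MulEquiv.symm_apply_apply] at h1
      · intro g hg hs
        rw [Subgroup.mem_comap]
        refine hM2 (mx g) ?_ ?_
        · rw [hiso, MulEquiv.symm_apply_apply]
          exact hg
        · rw [hsemi, MulEquiv.symm_apply_apply]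
          exact hs
    rcases main8 ⟨hc.1, hc.2.1⟩ hy (by rw [hdK]; exact hc.2.2) with h | h
    · left
      intro g hg
      rw [hsemi]
      apply h
      rw [Subgroup.mem_comap]
      change mx (mx.symm g) ∈ M
      rwa [MulEquiv.apply_symm_apply]
    · right
      apply Symp.iso_le hf
      intro z c
      have h1 := h c z
      rw [Subgroup.mem_comap] at h1
      convert h1 using 1
      apply Units.ext
      apply Matrix.toLin'.injective
      apply LinearMap.ext
      intro v
      change (Symp.tr hf z c : Matrix ι ι F) *ᵥ v = ((mx (LL B z (S1 K c)) : GL ι F) : Matrix ι ι F) *ᵥ v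
      rw [mx_mulVec, Symp.tr_mulVec, LL_apply, S1_apply, smul_assoc, one_smul, ← hB']
      rfl
  · obtain ⟨z, hz⟩ := exists_ne (0 : ι → F)
    refine ⟨mx (LL B z (S1 K (1 : F))), ?_, ?_⟩
    · rw [hiso, MulEquiv.symm_apply_apply]
      exact LL_iso (Ad_S1 1) z
    · rw [hsemi, MulEquiv.symm_apply_apply]
      exact not_semi hr hz

set_option maxHeartbeats 2000000 in
/-- The elements of the symplectic group normalising a field extension of prime degree `r` form a maximal subgroup. -/
theorem sp_maximal8 [Finite F] {f : (ι → F) → (ι → F) → F} (hf : IsSymplecticForm f) {r d : ℕ}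
    (K : Subalgebra F (Matrix ι ι F)) (hK : IsFieldSubalgebra r K) (hsa : IsSelfAdjointFor f K)
    (halt : ∀ k ∈ K, ∀ v : ι → F, f (k *ᵥ v) v = 0) (hr : r.Prime) (hd : r * d = Fintype.card ι)
    (hc : Nat.card F = 2 ∧ r = 3 ∧ d = 2) :
    IsMaximalIn (isoGL f) (subalgebraNormalizer K ⊓ isoGL f) := by
  have hι : Nonempty ι := by
    rw [← Fintype.card_pos_iff, ← hd]
    apply Nat.mul_pos hr.pos
    omega
  have hfr : finrank F K = r := hK.finrank_eq
  have key := @sp_alg8 ι _ _ F _ K (fieldOf hK) (inferInstanceAs (Algebra F K)) _ K.val f hf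
    (fun k v w => hsa k k.2 v w) (fun k v => halt k k.2 v) (by
      have : finrank F K = r := hK.finrank_eq
      rw [this]
      exact hr) d (by
      have : finrank F K = r := hK.finrank_eq
      rw [this]
      exact hd) (by
      have : finrank F K = r := hK.finrank_eq
      rw [this]
      exact hc)
  constructor
  · refine lt_of_le_of_ne inf_le_right ?_
    intro heq
    obtain ⟨g, hg, hg'⟩ := key.2
    apply hg'
    rw [← heq] at hg
    exact mem_normalizer_iff.1 hg.1
  · intro M hM1 hM2
    rcases key.1 M hM2 (fun g hg hs => hM1 ⟨mem_normalizer_iff.2 hs, hg⟩) with h | h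
    · left
      exact le_antisymm (fun g hg => ⟨mem_normalizer_iff.2 (h g hg), hM2 hg⟩) hM1
    · right
      exact le_antisymm hM2 h

end matrix

end Cfsg.Agent.SmallDim.SpExt8
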