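import Cfsg.Agent.TenMax.SpAsm

set_option autoImplicit false
set_option linter.unusedSectionVars false
set_option linter.unusedVariables false

/-!
Maximality of stabilisers of tensor decompositions in symplectic groups of small dimension.
-/

namespace Cfsg.Agent.SmallDim.SpTens

open Module Cfsg.Geo Cfsg.Agent.Asch Matrix Cfsg.Agent.GeoMax Cfsg.Agent.TenMax

open Cfsg.Agent.Asch.TMax (rhoG rhoG_mem rhoG_symm_mem rhoG_mulVec)

open Cfsg.Agent.AschCases (tp kron_tp tmap tmap_apply form_tp)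

open scoped Matrix MatrixGroups Kronecker

variable {F : Type*} [Field F]

/-- class 4 in symplectic groups -/
theorem isMaximalIn_tensor_sp' [Fintype F] (h2 : (2 : F) ≠ 0) {m : ℕ} {n₁ n₂ : ℕ} (hn₁ : 2 ≤ n₁) (hn₂ : 3 ≤ n₂)
    (hlg : (n₁ < n₂ ∧ 5 ≤ n₂) ∨ (n₂ ≤ n₁ ∧ 4 ≤ n₁))
    (hq : 4 ≤ n₂ ∨ 5 ≤ Fintype.card F) (e : (Fin m ⊕ Fin m) ≃ Fin n₁ × Fin n₂) (P : GL (Fin m ⊕ Fin m) F)
    {f₁ : (Fin n₁ → F) → (Fin n₁ → F) → F} {f₂ : (Fin n₂ → F) → (Fin n₂ → F) → F} (hf₁ : IsSymplecticForm f₁)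
    (hf₂ : IsSymmetricForm f₂) (hT : IsTensorFormStructure id (Cfsg.sympForm m F) f₁ f₂ e P) :
    IsMaximalIn (Cfsg.spGL m F) (tensorProductSubgroup n₁ n₂ e P ⊓ Cfsg.spGL m F) := by
  classical
  have hstd := Symp.std m F
  rcases hlg with ⟨h12, h5⟩ | ⟨h12, h4⟩
  · -- the orthogonal factor is larger
    obtain ⟨c, hc0, hc⟩ := form_tp (σ := RingEquiv.refl F) (Asch.isSesq_of_bilinear hf₁.bilinear) (Asch.isSesq_of_bilinear hf₂.bilinear) hT
    set T : TData (RingEquiv.refl F) (Fin n₁) (Fin n₂) :=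
      { X := SF.ofSymp (symp_smul hf₁ hc0)
        W := SF.ofSymm hf₂
        Y := SF.ofSymp (symp_comp hstd (tmap e P))
        tp := by
          intro u w u' w'
          show Cfsg.sympForm m F (tmap e P (tp u w)) (tmap e P (tp u' w')) = c * f₁ u u' * f₂ w w'
          rw [hc]
          ring
        he := (mul_one _).symm } with hTd
    refine isMaximalIn_of_dich hn₁ (by omega) e P (T := T) (fun x y => rfl) fun S hS => ?_
    exact caseA h2 hn₁ h12 h5 (SF.ofSymp_alt (symp_smul hf₁ hc0)) rfl hS (symp_comp hstd (tmap e P))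
  · -- the symplectic factor is larger
    have hT' := isTensorFormStructure_comm hT
    rw [tensorProductSubgroup_comm e P]
    set e' := e.trans (Equiv.prodComm _ _) with he'
    obtain ⟨c, hc0, hc⟩ := form_tp (σ := RingEquiv.refl F) (Asch.isSesq_of_bilinear hf₂.bilinear) (Asch.isSesq_of_bilinear hf₁.bilinear) hT'
    set T : TData (RingEquiv.refl F) (Fin n₂) (Fin n₁) :=
      { X := SF.ofSymm (symm_smul hf₂ hc0)
        W := SF.ofSymp hf₁
        Y := SF.ofSymp (symp_comp hstd (tmap e' P))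
        tp := by
          intro u w u' w'
          show Cfsg.sympForm m F (tmap e' P (tp u w)) (tmap e' P (tp u' w')) = c * f₂ u u' * f₁ w w'
          rw [hc]
          ring
        he := (one_mul _).symm } with hTd
    refine isMaximalIn_of_dich (by omega) (by omega) e' P (T := T) (fun x y => rfl) fun S hS => ?_
    exact caseB h2 hn₂ h12 h4 rfl (SF.ofSymp_alt hf₁) hq hS (symp_comp hstd (tmap e' P))

end Cfsg.Agent.SmallDim.SpTens
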