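import Cfsg.Agent.SmallDim.UniFull
import Cfsg.Agent.H98.SubfieldMax
import Cfsg.Agent.Asch.UniNine
import Cfsg.Agent.Asch.FormDescent

/-!
Maximality of the similarity group of an arbitrary non-degenerate unitary form.
-/

set_option autoImplicit false
set_option linter.unusedSectionVars false

namespace Cfsg.Agent.SmallDim.UniMax

open Matrix Cfsg.Geo Cfsg.Agent.GeoMax Module
open scoped MatrixGroups

variable {F : Type*} [Field F] [Fintype F] {n : ℕ}

/-- any unitary form is the standard one after a base change -/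
theorem exists_std_form {σ : F ≃+* F} {f : (Fin n → F) → (Fin n → F) → F} (hf : IsUnitaryForm σ f) :
    ∃ q : ℕ, Fintype.card F = q ^ 2 ∧ (∀ x, σ x = x ^ q) ∧ ∃ S : GL (Fin n) F, ∀ x y,
      f ((S : Matrix (Fin n) (Fin n) F) *ᵥ x) ((S : Matrix (Fin n) (Fin n) F) *ᵥ y) = Cfsg.hermForm n F q x y := by
  have hne : ∃ a, σ a ≠ a := by
    by_contra hcon
    push Not at hcon
    exact hf.ne_refl (RingEquiv.ext hcon)
  obtain ⟨q, hq, hσ⟩ := Asch.invol_eq_pow hne hf.involutive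
  have hs := Asch.isSesq_of_unitary hf
  have hG : ((gramMatrix f).map σ)ᵀ = gramMatrix f := by
    ext i j
    change σ (f (Pi.single j 1) (Pi.single i 1)) = f (Pi.single i 1) (Pi.single j 1)
    rw [← hf.herm]
  obtain ⟨S, hS⟩ := Asch.Heis.exists_congr_one hne hf.involutive hG (hs.gram_det_ne_zero fun v hv => (hf.nondegenerate v hv).2)
  refine ⟨q, hq, hσ, S, fun x y => ?_⟩
  rw [hs.eq_gram]
  have h1 : (fun i => σ (((S : Matrix (Fin n) (Fin n) F) *ᵥ y) i)) =
      (S : Matrix (Fin n) (Fin n) F).map σ *ᵥ (fun i => σ (y i)) := by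
    ext i
    simp [Matrix.mulVec, dotProduct, map_sum, map_mul]
  rw [h1, Matrix.mulVec_mulVec, ← Matrix.vecMul_transpose, ← Matrix.dotProduct_mulVec, Matrix.mulVec_mulVec,
    ← Matrix.mul_assoc, hS, Matrix.one_mulVec]
  simp only [dotProduct, Cfsg.hermForm, hσ]

theorem map_conj_similarityGroup {f f' : (Fin n → F) → (Fin n → F) → F} (S : GL (Fin n) F)
    (h : ∀ x y, f ((S : Matrix (Fin n) (Fin n) F) *ᵥ x) ((S : Matrix (Fin n) (Fin n) F) *ᵥ y) = f' x y) :
    (similarityGroup f').map (MulAut.conj S).toMonoidHom = similarityGroup f := by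
  ext g
  constructor
  · rintro ⟨g, ⟨c, hc⟩, rfl⟩
    refine ⟨c, fun u v => ?_⟩
    change f (((S * g * S⁻¹ : GL (Fin n) F) : Matrix (Fin n) (Fin n) F) *ᵥ u)
      (((S * g * S⁻¹ : GL (Fin n) F) : Matrix (Fin n) (Fin n) F) *ᵥ v) = _
    rw [gl_mul_mulVec, gl_mul_mulVec, gl_mul_mulVec, gl_mul_mulVec, h, hc, ← h, gl_mulVec_inv, gl_mulVec_inv]
  · rintro ⟨c, hc⟩
    refine ⟨S⁻¹ * g * S, ⟨c, fun u v => ?_⟩, ?_⟩
    · rw [gl_mul_mulVec, gl_mul_mulVec, gl_mul_mulVec, gl_mul_mulVec, ← h, gl_mulVec_inv, gl_mulVec_inv, hc, h]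
    · change S * (S⁻¹ * g * S) * S⁻¹ = g
      group

theorem sim_maximal (hn : 9 ≤ n) {σ : F ≃+* F} {f : (Fin n → F) → (Fin n → F) → F} (hf : IsUnitaryForm σ f) :
    IsMaximalIn (specialLinear (Fin n) F) (similarityGroup f ⊓ specialLinear (Fin n) F) := by
  obtain ⟨q, hq, -, S, hS⟩ := exists_std_form hf
  have h1 := Cfsg.Agent.H98.Subf.isMaximalIn_map (MulAut.conj S) (std_sim_maximal hq hn)
  rw [Subgroup.map_inf _ _ _ (MulAut.conj S).injective, Cfsg.Agent.H98.Subf.map_conj_specialLinear] at h1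
  have h2 := map_conj_similarityGroup S hS
  rwa [h2] at h1

end Cfsg.Agent.SmallDim.UniMax
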