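import Cfsg.Agent.GeoMax.OSLMain

/-!
Maximality of the orthogonal similarity group in `SL_n(q)`, `q` odd, `n ≥ 9`.
-/

set_option autoImplicit false
set_option linter.unusedSectionVars false

namespace Cfsg.Agent.SmallDim.QS

open QuadraticMap Module Cfsg.Agent.Orth Cfsg.Agent.GeoMax Cfsg.Agent.GeoMax.Ort
open Matrix
open scoped MatrixGroups

variable {ι : Type} [Fintype ι] [DecidableEq ι] {F : Type*} [Field F] [Finite F]
variable {M : Subgroup (GL ι F)} {Q : QuadraticForm F (ι → F)}

/-- two non-proportional forms -/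
theorem sl_le_of_not_prop' [Nontrivial ι] (hQ : (polarBilin Q).Nondegenerate) (h2 : (2 : F) ≠ 0) (hN : 9 ≤ Fintype.card ι)
    (hS : Sie M Q) (Q' : QuadraticForm F (ι → F)) (hQ' : (polarBilin Q').Nondegenerate) (hS' : Sie M Q')
    (hne : ¬ ∃ c : F, ∀ x, Q' x = c * Q x) : Cfsg.Geo.specialLinear ι F ≤ M := by
  have hfr : 9 ≤ finrank F (ι → F) := by rw [Module.finrank_fintype_fun_eq_card]; exact hN
  obtain ⟨U, hU, hUs⟩ := exists_TS hQ 4 (by omega)
  obtain ⟨a, haU, ha0, ha'⟩ := exists_sing_mem Q' U (by omega)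
  have ha := hUs a haU
  by_cases hc : ∃ c : F, ∀ x, polar Q' x a = c * polar Q x a
  · obtain ⟨c, hc⟩ := hc
    have hc0 : c ≠ 0 := by
      rintro rfl
      apply ha0
      refine hQ'.1 a fun x => ?_
      rw [pbil, pc, hc, zero_mul]
    refine sl_le_of_two hQ h2 (by omega) hS (c⁻¹ • Q') (hS'.smul (inv_ne_zero hc0)) ha0 ha (fun x => ?_) (fun h => hne ⟨c, fun x => ?_⟩)
    · have : polar (c⁻¹ • Q') x a = c⁻¹ * polar Q' x a := by
        simp only [QuadraticMap.polar, _root_.smul_apply, smul_eq_mul]; ring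
      rw [this, hc, ← mul_assoc, inv_mul_cancel₀ hc0, one_mul]
    · rw [← h x]
      have : (c⁻¹ • Q') x = c⁻¹ * Q' x := by simp
      rw [this, ← mul_assoc, mul_inv_cancel₀ hc0, one_mul]
  · -- a vector orthogonal to `a` for `Q'` but not for `Q`
    obtain ⟨x₁, hx₁', hx₁⟩ : ∃ x₁, polar Q' x₁ a = 0 ∧ polar Q x₁ a ≠ 0 := by
      by_contra hcon
      push Not at hcon
      obtain ⟨z, hz⟩ := exists_polar_ne hQ' ha0
      apply hc
      have h12 : ∀ x, polar Q x a = (polar Q z a / polar Q' z a) * polar Q' x a := by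
        intro x
        have h11 := hcon (x - (polar Q' x a / polar Q' z a) • z) (by
          rw [pdl, psl, div_mul_cancel₀ _ hz, sub_self])
        rw [pdl, psl] at h11
        rw [sub_eq_zero.1 h11]
        field_simp
      obtain ⟨z', hz'⟩ := exists_polar_ne hQ ha0
      have h13 : polar Q z a / polar Q' z a ≠ 0 := by
        intro h
        apply hz'
        rw [h12, h, zero_mul]
      refine ⟨(polar Q z a / polar Q' z a)⁻¹, fun x => ?_⟩
      rw [h12 x, ← mul_assoc, inv_mul_cancel₀ h13, one_mul]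
    have haa : polar Q a a = 0 := by rw [pself, ha, mul_zero]
    have hx₁l : x₁ ∉ Submodule.span F {x | x ∈ [a]} := by
      intro hm
      have e : ({x | x ∈ [a]} : Set (ι → F)) = {a} := by ext z; simp
      rw [e] at hm
      obtain ⟨α, hα⟩ := Submodule.mem_span_singleton.1 hm
      apply hx₁
      rw [← hα, psl, haa, mul_zero]
    obtain ⟨b, hb, hbx⟩ := exists_sep hQ' [a] hx₁l
    have hba' : polar Q' b a = 0 := hb a (by simp)
    have hxb : polar Q' x₁ b = 1 := by rw [pc]; exact hbx
    obtain ⟨g, hg, hgx⟩ := hS'.elt ha' (b := b) (by rw [pc]; exact hba')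
    -- the new form
    let Q'' : QuadraticForm F (ι → F) := Q.comp (Matrix.mulVecLin (g : Matrix ι ι F))
    have hQ'' : ∀ x, Q'' x = Q ((g : Matrix ι ι F) *ᵥ x) := fun x => rfl
    have hS'' : Sie M Q'' := by
      refine hS.conj (M.inv_mem hg) fun x => ?_
      rw [hQ'', gl_mulVec_inv]
    have hP'' : ∀ x y, polar Q'' x y = polar Q ((g : Matrix ι ι F) *ᵥ x) ((g : Matrix ι ι F) *ᵥ y) := by
      intro x y
      simp only [QuadraticMap.polar, hQ'', Matrix.mulVec_add]
    -- common singular vector
    have k1 := Symp.finrank_span_list_le (K := F) [a, b]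
    simp only [List.length_cons, List.length_nil] at k1
    have k2 := finrank_perp hQ (Submodule.span F {x | x ∈ [a, b]})
    have k3 := finrank_perp hQ' (Submodule.span F {x | x ∈ [a, b]})
    have k4 := Submodule.finrank_sup_add_finrank_inf_eq (perp Q (Submodule.span F {x | x ∈ [a, b]}))
      (perp Q' (Submodule.span F {x | x ∈ [a, b]}))
    have k5 := Submodule.finrank_le (perp Q (Submodule.span F {x | x ∈ [a, b]}) ⊔ perp Q' (Submodule.span F {x | x ∈ [a, b]}))
    obtain ⟨d, ⟨hd1, hd2⟩, hd0, hd⟩ := exists_sing_mem Q (perp Q (Submodule.span F {x | x ∈ [a, b]}) ⊓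
      perp Q' (Submodule.span F {x | x ∈ [a, b]})) (by omega)
    have e1 : polar Q a d = 0 := hd1 a (Submodule.subset_span (by simp))
    have e2 : polar Q b d = 0 := hd1 b (Submodule.subset_span (by simp))
    have e3 : polar Q' d a = 0 := by rw [pc]; exact hd2 a (Submodule.subset_span (by simp))
    have e4 : polar Q' d b = 0 := by rw [pc]; exact hd2 b (Submodule.subset_span (by simp))
    refine sl_le_of_two hQ h2 (by omega) hS Q'' hS'' hd0 hd (fun x => ?_) (fun h => ?_)
    · rw [hP'', hgx x, hgx d, e3, e4]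
      simp only [mul_zero, zero_smul, add_zero, sub_zero]
      rw [pdl, pdl, pal, psl, psl, psl, e1, e2]; ring
    · -- the forms differ
      have h10 := h x₁
      rw [hQ'', hgx, hx₁', hxb] at h10
      simp only [mul_zero, zero_smul, sub_zero, one_smul] at h10
      rw [qadd, ha] at h10
      apply hx₁
      linear_combination h10

/-- **Maximality of the orthogonal similarity group in `SL_n(q)`**, `q` odd. -/
theorem similarity_maximal' (hQ : (polarBilin Q).Nondegenerate) (h2 : (2 : F) ≠ 0) (hN : 9 ≤ Fintype.card ι) :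
    Cfsg.Geo.IsMaximalIn (Cfsg.Geo.specialLinear ι F) (Cfsg.Geo.quadSimilarityGroup ⇑Q ⊓ Cfsg.Geo.specialLinear ι F) := by
  have hfr : 9 ≤ finrank F (ι → F) := by rw [Module.finrank_fintype_fun_eq_card]; exact hN
  have hnt : Nontrivial ι := Fintype.one_lt_card_iff_nontrivial.1 (by omega)
  constructor
  · refine lt_of_le_of_ne inf_le_right ?_
    intro heq
    -- a transvection which is not a similarity
    obtain ⟨a, ha0, ha⟩ := exists_sing Q (by omega)
    obtain ⟨C, hC⟩ := Submodule.exists_isCompl (Submodule.span F {a})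
    have h5 := Submodule.finrank_add_eq_of_isCompl hC
    rw [finrank_span_singleton ha0] at h5
    have h6 := Submodule.finrank_sup_add_finrank_inf_eq (perp Q (Submodule.span F {a})) C
    have h7 := Submodule.finrank_le (perp Q (Submodule.span F {a}) ⊔ C)
    have h4 := finrank_perp hQ (Submodule.span F {a})
    rw [finrank_span_singleton ha0] at h4
    obtain ⟨c, ⟨hc1, hc2⟩, hc0, hc⟩ := exists_sing_mem Q (perp Q (Submodule.span F {a}) ⊓ C) (by omega)
    have hca : polar Q c a = 0 := mem_perp_one.1 hc1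
    have hacl : c ∉ Submodule.span F {x | x ∈ [a]} := by
      intro hm
      have e : ({x | x ∈ [a]} : Set (ι → F)) = {a} := by ext z; simp
      rw [e] at hm
      have := hC.disjoint
      rw [Submodule.disjoint_def] at this
      exact hc0 (this c hm hc2)
    have hcal : a ∉ Submodule.span F {x | x ∈ [c]} := by
      intro hm
      have e : ({x | x ∈ [c]} : Set (ι → F)) = {c} := by ext z; simp
      rw [e] at hm
      obtain ⟨α, hα⟩ := Submodule.mem_span_singleton.1 hm
      have := hC.disjoint
      rw [Submodule.disjoint_def] at this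
      exact ha0 (this a (Submodule.mem_span_singleton_self a) (by rw [← hα]; exact C.smul_mem _ hc2))
    -- the row vector
    let w : ι → F := (dotProductEquiv F ι).symm ((polarBilin Q).flip c)
    have hw : ∀ x, w ⬝ᵥ x = polar Q x c := by
      intro x
      have h := congrArg (fun ψ => ψ x) ((dotProductEquiv F ι).apply_symm_apply ((polarBilin Q).flip c))
      exact h
    have hwa : w ⬝ᵥ a = 0 := by rw [hw, pc]; exact hca
    have hmem : tvec a w hwa ∈ Cfsg.Geo.quadSimilarityGroup ⇑Q ⊓ Cfsg.Geo.specialLinear ι F := by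
      rw [heq]; exact tvec_det a w hwa
    obtain ⟨⟨k, hk⟩, -⟩ := hmem
    have hk' : ∀ v, Q v + polar Q v c * polar Q v a = k * Q v := by
      intro v
      have := hk v
      rw [tvec_mulVec, hw, qadd, qsmul, psr, ha] at this
      linear_combination this
    obtain ⟨y₁, hy₁, hy₁c⟩ := exists_sep hQ [a] hacl
    obtain ⟨y₂, hy₂, hy₂a⟩ := exists_sep hQ [c] hcal
    have hy₁a := hy₁ a (by simp)
    have hy₂c := hy₂ c (by simp)
    -- `k = 1`
    obtain ⟨s, hs, hsl⟩ := repV hQ [a] (by simp; omega) 0 1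
    have h8 := hk' s
    rw [hsl a (by simp), polar_zero_left, hs] at h8
    have hk1 : (k : F) = 1 := by linear_combination -h8
    have h9 := hk' (y₁ + y₂)
    rw [hk1, pal, pal, hy₁a, hy₂c, hy₁c, hy₂a] at h9
    exact one_ne_zero (by linear_combination h9 : (1 : F) = 0)
  · intro M hHM hMI
    by_cases hMH : M = Cfsg.Geo.quadSimilarityGroup ⇑Q ⊓ Cfsg.Geo.specialLinear ι F
    · exact Or.inl hMH
    right
    refine le_antisymm hMI ?_
    have hS : Sie M Q := by
      intro a b ha hab
      refine ⟨ha, hab, hHM ⟨⟨1, fun v => ?_⟩, ?_⟩⟩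
      · rw [emGL_mulVec, OGrp_q]; simp
      · have h1 := eich_mem_commutator hQ (by omega) ha hab
        have h2 : (Matrix.GeneralLinearGroup.det.comp (emGL Q)) (eich Q a b ha hab) = 1 := by
          have h3 := Abelianization.commutator_subset_ker (Matrix.GeneralLinearGroup.det.comp (emGL Q)) h1
          exact h3
        exact h2
    obtain ⟨g, hgM, hg⟩ : ∃ g ∈ M, g ∉ Cfsg.Geo.quadSimilarityGroup ⇑Q := by
      by_contra hcon
      push Not at hcon
      exact hMH (le_antisymm (fun g hg => ⟨hcon g hg, hMI hg⟩) hHM)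
    let Q' : QuadraticForm F (ι → F) := Q.comp (Matrix.mulVecLin (g : Matrix ι ι F))
    have hQ'v : ∀ x, Q' x = Q ((g : Matrix ι ι F) *ᵥ x) := fun x => rfl
    have hP' : ∀ x y, polar Q' x y = polar Q ((g : Matrix ι ι F) *ᵥ x) ((g : Matrix ι ι F) *ᵥ y) := by
      intro x y
      simp only [QuadraticMap.polar, hQ'v, Matrix.mulVec_add]
    have hQ' : (polarBilin Q').Nondegenerate := by
      have key : ∀ x, (∀ y, polar Q' x y = 0) → x = 0 := by
        intro x hx
        have : (g : Matrix ι ι F) *ᵥ x = 0 := by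
          refine hQ.1 _ fun y => ?_
          rw [pbil]
          have := hx (((g⁻¹ : GL ι F) : Matrix ι ι F) *ᵥ y)
          rwa [hP', gl_mulVec_inv] at this
        exact gl_mulVec_injective g (this.trans (by simp))
      refine ⟨fun x hx => key x hx, fun x hx => key x fun y => ?_⟩
      rw [pc]; exact hx y
    refine sl_le_of_not_prop' hQ h2 hN hS Q' hQ' (hS.conj (M.inv_mem hgM) fun x => ?_) ?_
    · rw [hQ'v, gl_mulVec_inv]
    · rintro ⟨c, hc⟩
      apply hg
      have hc0 : c ≠ 0 := by
        rintro rfl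
        obtain ⟨s, hs, -⟩ := repV hQ [] (by simp; omega) 0 1
        have h3 := hc (((g⁻¹ : GL ι F) : Matrix ι ι F) *ᵥ s)
        rw [hQ'v, gl_mulVec_inv, hs, zero_mul] at h3
        exact one_ne_zero h3
      exact ⟨Units.mk0 c hc0, fun v => by rw [← hQ'v, hc]; rfl⟩

end Cfsg.Agent.SmallDim.QS
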