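import Cfsg.Agent.GeoMax.SubSpFin
import Cfsg.Agent.GeoMax.Transport

/-!
Subfield subgroups of symplectic groups in small dimensions.
-/

set_option autoImplicit false
set_option linter.unusedSectionVars false

namespace Cfsg.Agent.SmallDim.SubSp

open Matrix
open scoped MatrixGroups
open Cfsg.Geo Cfsg.Agent.GeoMax Cfsg.Agent.GeoMax.Symp

variable {ι : Type} [Fintype ι] [DecidableEq ι] {F : Type*} [Field F]
variable {f : (ι → F) → (ι → F) → F} {F₀ : Subfield F}

/-- changing the second vector of a rational short root element -/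
lemma move_second {hf : IsSymplecticForm f} (hF : Rational F₀ f) (hι : 5 < Fintype.card ι)
    {M : Subgroup (GL ι F)} (hM : M ≤ isoGL f) (hR : RatTr hf F₀ M) {v w : ι → F₀} {c e : F}
    (hwv : f (emb F₀ w) (emb F₀ v) = 0) (hw : w ∉ Submodule.span F₀ {v})
    (h1 : rho hf (emb F₀ v) (c • emb F₀ w) e ∈ M) {z : ι → F₀} (hzv : f (emb F₀ z) (emb F₀ v) = 0) :
    rho hf (emb F₀ v) (c • emb F₀ z) 0 ∈ M := by
  obtain ⟨y1, hy1, hy1p⟩ := exists_perp_rat hf hF [v, w, z] [v, w] (by simp; omega)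
  obtain ⟨y2, hy2, hy2p⟩ := exists_perp_rat hf hF [v, w, z] [v, z] (by simp; omega)
  let P : Submodule F₀ (ι → F₀) := perp (f0_symp hf hF) (Submodule.span F₀ {x | x ∈ [v, w, z]})
  have hP : ∀ y : ι → F₀, y ∈ P ↔ ∀ x ∈ [v, w, z], f (emb F₀ y) (emb F₀ x) = 0 := by
    intro y
    constructor
    · intro hy x hx
      exact f0_eq_zero.1 (mem_perp'.1 hy x (Submodule.subset_span hx))
    · intro hy
      refine mem_perp'.2 fun x hx => ?_
      induction hx using Submodule.span_induction with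
      | mem x hx => exact f0_eq_zero.2 (hy x hx)
      | zero => exact zero_right (f0_symp hf hF) y
      | add a b _ _ ha hb => rw [add_right (f0_symp hf hF), ha, hb, add_zero]
      | smul k a _ ha => rw [smul_right (f0_symp hf hF), ha, mul_zero]
  obtain ⟨y, hyP, hyw, hyz⟩ := exists_notMem_notMem (U := P) (A := Submodule.span F₀ {x | x ∈ [v, w]})
    (B := Submodule.span F₀ {x | x ∈ [v, z]}) (fun h => hy1 (h ((hP y1).2 hy1p))) (fun h => hy2 (h ((hP y2).2 hy2p)))
  have hy := (hP y).1 hyP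
  rw [setOf_mem_pair] at hyw hyz
  have a1 : rho hf (emb F₀ v) (c • emb F₀ y) 0 ∈ M := by
    refine rho_move_rat hF hM hR hwv (hy v (by simp)) (f_symm_zero hf (hy w (by simp))) ?_ h1
    intro h
    obtain ⟨a, b, hab⟩ := Submodule.mem_span_pair.1 h
    by_cases hb : b = 0
    · apply hw
      rw [Submodule.mem_span_singleton]
      exact ⟨a, by rw [← hab, hb, zero_smul, add_zero]⟩
    · apply hyw
      have : y = b⁻¹ • (w - a • v) := by
        rw [← hab, add_sub_cancel_left, smul_smul, inv_mul_cancel₀ hb, one_smul]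
      rw [this]
      exact Submodule.smul_mem _ _ (Submodule.sub_mem _ (Submodule.subset_span (by simp))
        (Submodule.smul_mem _ _ (Submodule.subset_span (by simp))))
  exact rho_move_rat hF hM hR (hy v (by simp)) hzv (hy z (by simp)) hyz a1

lemma mem_D_of_pair' {hf : IsSymplecticForm f} (hF : Rational F₀ f) (hι : 5 < Fintype.card ι)
    {M : Subgroup (GL ι F)} (hM : M ≤ isoGL f) (hR : RatTr hf F₀ M) {v w : ι → F₀} {c e : F}
    (hv : v ≠ 0) (hwv : f (emb F₀ w) (emb F₀ v) = 0) (hw : w ∉ Submodule.span F₀ {v})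
    (h1 : rho hf (emb F₀ v) (c • emb F₀ w) e ∈ M) : c ∈ Dset hf F₀ M := by
  intro v' z' hzv'
  obtain ⟨u1, hu1, hu1p⟩ := exists_perp_rat hf hF [v, v'] [v] (by simp; omega)
  obtain ⟨u2, hu2, hu2p⟩ := exists_perp_rat hf hF [v, v'] [v'] (by simp; omega)
  have hs : ∀ a : ι → F₀, {x | x ∈ [a]} = ({a} : Set (ι → F₀)) := by intro a; ext; simp
  rw [hs] at hu1 hu2
  -- a vector orthogonal to both and outside both lines
  obtain ⟨u, huv, huv', hup⟩ : ∃ u : ι → F₀, u ∉ Submodule.span F₀ {v} ∧ u ∉ Submodule.span F₀ {v'} ∧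
      ∀ x ∈ [v, v'], f (emb F₀ u) (emb F₀ x) = 0 := by
    by_cases h1 : u1 ∈ Submodule.span F₀ {v'}
    · by_cases h2 : u2 ∈ Submodule.span F₀ {v}
      · refine ⟨u1 + u2, ?_, ?_, ?_⟩
        · intro h
          apply hu1
          have := Submodule.sub_mem _ h h2
          rwa [add_sub_cancel_right] at this
        · intro h
          apply hu2
          have := Submodule.sub_mem _ h h1
          rwa [add_sub_cancel_left] at this
        · intro x hx
          rw [emb_add, add_left hf, hu1p x hx, hu2p x hx, add_zero]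
      · exact ⟨u2, h2, hu2, hu2p⟩
    · exact ⟨u1, hu1, h1, hu1p⟩
  have e1 := hup v (by simp)
  have e2 := hup v' (by simp)
  have a1 := move_second hF hι hM hR hwv hw h1 e1
  rw [rho_symm hf e1] at a1
  have hvu : v ∉ Submodule.span F₀ {u} := by
    intro h
    obtain ⟨a, ha⟩ := Submodule.mem_span_singleton.1 h
    have ha0 : a ≠ 0 := by rintro rfl; rw [zero_smul] at ha; exact hv ha.symm
    apply huv
    rw [Submodule.mem_span_singleton]
    exact ⟨a⁻¹, by rw [← ha, smul_smul, inv_mul_cancel₀ ha0, one_smul]⟩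
  have a2 := move_second hF hι hM hR (f_symm_zero hf e1) hvu a1 (f_symm_zero hf e2)
  rw [rho_symm hf (f_symm_zero hf e2)] at a2
  exact move_second hF hι hM hR e2 huv' a2 hzv'

section small
variable {hf : IsSymplecticForm f} (hF : Rational F₀ f) (hι : 5 < Fintype.card ι)
    {M : Subgroup (GL ι F)} (hM : M ≤ isoGL f) (hR : RatTr hf F₀ M) (hD : ∀ c ∈ Dset hf F₀ M, c ∈ F₀)

include hF hι hM hR hD

lemma prod_mem {u : ι → F} (hu : tr hf u 1 ∈ M) {v : ι → F₀} (hv : v ≠ 0) (huv : f u (emb F₀ v) = 0)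
    {w w' : ι → F₀} (hw : f (emb F₀ w) (emb F₀ v) = 0) (hw' : f (emb F₀ w') (emb F₀ v) = 0) :
    f u (emb F₀ w) * f u (emb F₀ w') ∈ F₀ := by
  by_cases h0 : f u (emb F₀ w') = 0
  · rw [h0, mul_zero]; exact F₀.zero_mem
  apply hD
  have hs := hR.rho v w 0
  have h1 := M.mul_mem (M.mul_mem hs hu) (M.inv_mem hs)
  rw [tr_conj hf (hM hs), rho_mulVec hf hw, huv] at h1
  have h2 : rho hf (f u (emb F₀ w) • emb F₀ v) u 1 ∈ M := by
    unfold rho
    have e1 : tr hf u (-1) = (tr hf u 1)⁻¹ := (tr_inv hf u 1).symm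
    rw [e1, sub_self, tr_zero, mul_one]
    have e2 : f u (emb F₀ w) • emb F₀ v + u = u + (0 : F) • emb F₀ w + f u (emb F₀ w) • emb F₀ v +
      (((0 : F₀) : F) * 0) • emb F₀ v := by push_cast; module
    rw [e2]
    exact M.mul_mem (M.inv_mem hu) h1
  rw [rho_smul_left hf huv] at h2
  have ht := hR w' 1
  have h3 := M.mul_mem (M.mul_mem ht h2) (M.inv_mem ht)
  rw [rho_conj hf (hM ht), tr_mulVec, f_symm_zero hf hw', tr_mulVec, smul_left hf] at h3
  have e3 : emb F₀ v + (((1 : F₀) : F) * 0) • emb F₀ w' = emb F₀ v := by module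
  rw [e3] at h3
  set μ := f u (emb F₀ w)
  set μ' := f u (emb F₀ w')
  have h4 := M.mul_mem h3 (M.inv_mem h2)
  rw [rho_inv hf (by rw [smul_left hf, huv, mul_zero]), rho_mul hf
    (by rw [add_left hf, smul_left hf, smul_left hf, huv, hw']; ring)
    (by rw [neg_left hf, smul_left hf, huv]; ring)] at h4
  have e4 : μ • u + (((1 : F₀) : F) * (μ * μ')) • emb F₀ w' + -(μ • u) = (μ * μ') • emb F₀ w' := by
    push_cast; module
  rw [e4] at h4
  refine mem_D_of_pair' hF hι hM hR hv hw' ?_ h4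
  intro h
  obtain ⟨a, rfl⟩ := Submodule.mem_span_singleton.1 h
  apply h0
  rw [show μ' = f u (emb F₀ (a • v)) from rfl, emb_smul, smul_right hf, huv, mul_zero]

lemma prod_mem' {u : ι → F} (hu : tr hf u 1 ∈ M) {v : ι → F₀} (hv : v ≠ 0) (huv : f u (emb F₀ v) = 0)
    (w w' : ι → F₀) : f u (emb F₀ w) * f u (emb F₀ w') ∈ F₀ := by
  obtain ⟨a, ha, hap⟩ := exists_perp_rat hf hF [v, w, w'] [] (by simp; omega)
  obtain ⟨b, hb, hbp⟩ := exists_perp_rat hf hF [v, w, w'] [a] (by simp; omega)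
  have ha0 : a ≠ 0 := by
    rintro rfl; exact ha (Submodule.zero_mem _)
  -- a rational vector orthogonal to `u`, `w`, `w'`
  obtain ⟨v', hv'0, huv', hwv', hw'v'⟩ : ∃ v' : ι → F₀, v' ≠ 0 ∧ f u (emb F₀ v') = 0 ∧
      f (emb F₀ w) (emb F₀ v') = 0 ∧ f (emb F₀ w') (emb F₀ v') = 0 := by
    by_cases h0 : f u (emb F₀ a) = 0
    · exact ⟨a, ha0, h0, f_symm_zero hf (hap w (by simp)), f_symm_zero hf (hap w' (by simp))⟩
    have h1 := prod_mem hF hι hM hR hD hu hv huv (hap v (by simp)) (hap v (by simp))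
    have h2 := prod_mem hF hι hM hR hD hu hv huv (hbp v (by simp)) (hap v (by simp))
    set t : F₀ := ⟨_, h2⟩ / ⟨_, h1⟩ with ht
    have ht' : (t : F) = f u (emb F₀ b) / f u (emb F₀ a) := by
      rw [ht]; push_cast
      field_simp
    refine ⟨b - t • a, ?_, ?_, ?_, ?_⟩
    · intro h
      apply hb
      rw [sub_eq_zero.1 h]
      exact Submodule.smul_mem _ _ (Submodule.subset_span (by simp))
    · rw [emb_sub, emb_smul, sub_right hf, smul_right hf, ht']
      field_simp
      ring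
    · rw [emb_sub, emb_smul, sub_right hf, smul_right hf, f_symm_zero hf (hap w (by simp)),
        f_symm_zero hf (hbp w (by simp))]; ring
    · rw [emb_sub, emb_smul, sub_right hf, smul_right hf, f_symm_zero hf (hap w' (by simp)),
        f_symm_zero hf (hbp w' (by simp))]; ring
  exact prod_mem hF hι hM hR hD hu hv'0 huv' hwv' hw'v'

lemma exists_smul_emb {u : ι → F} (hu : tr hf u 1 ∈ M) {v : ι → F₀} (hv : v ≠ 0)
    (huv : f u (emb F₀ v) = 0) : ∃ l : F, l ≠ 0 ∧ ∃ u₀ : ι → F₀, u = l • emb F₀ u₀ := by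
  by_cases h0 : ∀ w : ι → F₀, f u (emb F₀ w) = 0
  · exact ⟨1, one_ne_zero, 0, by rw [eq_zero_of_emb hf h0, emb_zero, smul_zero]⟩
  push Not at h0
  obtain ⟨w₁, hw₁⟩ := h0
  refine ⟨f u (emb F₀ w₁), hw₁, ?_⟩
  obtain ⟨u₀, hu₀⟩ := exists_emb hf hF (u := (f u (emb F₀ w₁))⁻¹ • u) (fun w => by
    have h1 := prod_mem' hF hι hM hR hD hu hv huv w w₁
    have h2 := prod_mem' hF hι hM hR hD hu hv huv w₁ w₁
    have h3 := F₀.div_mem h1 h2
    rw [smul_left hf]
    convert h3 using 1
    field_simp)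
  refine ⟨u₀, ?_⟩
  rw [← hu₀, smul_smul, mul_inv_cancel₀ hw₁, one_smul]

end small

section small2
variable {hf : IsSymplecticForm f} (hF : Rational F₀ f) (hι : 5 < Fintype.card ι)
    {M : Subgroup (GL ι F)} (hM : M ≤ isoGL f) (hR : RatTr hf F₀ M) (hD : ∀ c ∈ Dset hf F₀ M, c ∈ F₀)

include hF hι hM hR hD

lemma generic {g : GL ι F} (hg : g ∈ M) (hgN : ¬ NormV F₀ g) (x v : ι → F₀) (hx : x ≠ 0) (hv : v ≠ 0) :
    f ((g : Matrix ι ι F) *ᵥ emb F₀ x) (emb F₀ v) ≠ 0 := by
  intro hxv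
  haveI : Nonempty ι := Fintype.card_pos_iff.1 (by omega)
  apply hgN
  apply normV_of_forall hf hF (hM hg)
  have htr : ∀ y : ι → F₀, tr hf ((g : Matrix ι ι F) *ᵥ emb F₀ y) 1 ∈ M := by
    intro y
    rw [← tr_conj hf (hM hg)]
    have := hR y 1
    push_cast at this
    exact M.mul_mem (M.mul_mem hg this) (M.inv_mem hg)
  have hA : ∀ y v' : ι → F₀, v' ≠ 0 → f ((g : Matrix ι ι F) *ᵥ emb F₀ y) (emb F₀ v') = 0 →
      ∃ l : F, l ≠ 0 ∧ ∃ u₀ : ι → F₀, (g : Matrix ι ι F) *ᵥ emb F₀ y = l • emb F₀ u₀ :=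
    fun y v' hv' h => exists_smul_emb hF hι hM hR hD (htr y) hv' h
  have hB : ∀ z : ι → F₀, z ≠ 0 → (∃ l : F, l ≠ 0 ∧ ∃ u₀ : ι → F₀, (g : Matrix ι ι F) *ᵥ emb F₀ z = l • emb F₀ u₀) →
      ∀ y : ι → F₀, f (emb F₀ y) (emb F₀ z) = 0 →
      ∃ l : F, l ≠ 0 ∧ ∃ u₀ : ι → F₀, (g : Matrix ι ι F) *ᵥ emb F₀ y = l • emb F₀ u₀ := by
    rintro z hz ⟨l, hl, z₁, hz₁⟩ y hyz
    have hz₁0 : z₁ ≠ 0 := by
      rintro rfl
      rw [emb_zero, smul_zero] at hz₁
      apply hz
      rw [← emb_eq_zero]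
      exact gl_mulVec_injective g (by simpa using hz₁)
    refine hA y z₁ hz₁0 ?_
    have h1 := mem_isoGL.1 (hM hg) (emb F₀ y) (emb F₀ z)
    rw [hyz, hz₁, smul_right hf] at h1
    exact (mul_eq_zero.1 h1).resolve_left hl
  have hx' := hA x v hv hxv
  intro y
  obtain ⟨z, hz, hzp⟩ := exists_perp_rat hf hF [x, y] [] (by simp; omega)
  have hz0 : z ≠ 0 := by rintro rfl; exact hz (Submodule.zero_mem _)
  exact hB z hz0 (hB x hx hx' z (hzp x (by simp))) y (f_symm_zero hf (hzp y (by simp)))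

lemma eq_one_of_fix {g : GL ι F} (hg : g ∈ M) (hgN : ¬ NormV F₀ g) {x : GL ι F} (hx : x ∈ isoGL f)
    {v₀ : ι → F₀} (hv₀ : v₀ ≠ 0) (hxv : (x : Matrix ι ι F) *ᵥ emb F₀ v₀ = emb F₀ v₀) (hr : RatM F₀ (g⁻¹ * x * g)) :
    x = 1 := by
  have h1 : ∀ y : ι → F₀, (x : Matrix ι ι F) *ᵥ ((g : Matrix ι ι F) *ᵥ emb F₀ y) = (g : Matrix ι ι F) *ᵥ emb F₀ y := by
    intro y
    obtain ⟨y₁, hy₁⟩ := hr y
    rw [gl_mul_mulVec, gl_mul_mulVec] at hy₁
    have h2 : (x : Matrix ι ι F) *ᵥ ((g : Matrix ι ι F) *ᵥ emb F₀ y) = (g : Matrix ι ι F) *ᵥ emb F₀ y₁ := by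
      rw [← hy₁, gl_mulVec_inv]
    rw [h2]
    have h3 : f ((g : Matrix ι ι F) *ᵥ emb F₀ (y₁ - y)) (emb F₀ v₀) = 0 := by
      rw [emb_sub, Matrix.mulVec_sub, sub_left hf, ← h2]
      nth_rw 1 [← hxv]
      rw [mem_isoGL.1 hx, sub_self]
    have h4 : y₁ - y = 0 := by
      by_contra hne
      exact generic hF hι hM hR hD hg hgN _ _ hne hv₀ h3
    rw [sub_eq_zero.1 h4]
  have h5 : x * g = g := by
    apply Units.ext
    apply Matrix.ext_of_mulVec_single
    intro i
    rw [gl_mul_mulVec, ← emb_single (F₀ := F₀)]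
    exact h1 _
  exact mul_eq_right.1 h5

lemma card_le_finrank [Finite F] {g : GL ι F} (hg : g ∈ M) (hgN : ¬ NormV F₀ g) :
    Fintype.card ι ≤ Module.finrank F₀ F := by
  haveI : Nonempty ι := Fintype.card_pos_iff.1 (by omega)
  obtain ⟨i⟩ := ‹Nonempty ι›
  set y₀ : ι → F₀ := Pi.single i 1 with hy₀
  have hy₀0 : y₀ ≠ 0 := by
    intro h
    have := congrFun h i
    simp [hy₀] at this
  let φ : (ι → F₀) →ₗ[F₀] F :=
    { toFun := fun w => f ((g : Matrix ι ι F) *ᵥ emb F₀ y₀) (emb F₀ w)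
      map_add' := fun a b => by rw [emb_add, add_right hf]
      map_smul' := fun c a => by rw [emb_smul, smul_right hf]; rfl }
  have hinj : Function.Injective φ := by
    rw [injective_iff_map_eq_zero]
    intro a ha
    by_contra hne
    exact generic hF hι hM hR hD hg hgN _ _ hy₀0 hne ha
  have := LinearMap.finrank_le_finrank_of_injective hinj
  rwa [Module.finrank_fintype_fun_eq_card] at this

end small2

/-- main theorem in the case of the small coefficient ring -/
theorem le_normV7 [Finite F] {hf : IsSymplecticForm f} (hF : Rational F₀ f) (hι : 6 < Fintype.card ι)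
    {M : Subgroup (GL ι F)} (hM : M ≤ isoGL f) (hR : RatTr hf F₀ M) (hD : ∀ c ∈ Dset hf F₀ M, c ∈ F₀)
    {r : ℕ} (hr : r.Prime) (hfin : Module.finrank F₀ F = r) {g : GL ι F} (hg : g ∈ M) : NormV F₀ g := by
  have hι5 : 5 < Fintype.card ι := by omega
  by_contra hgN
  have hne : Nonempty ι := Fintype.card_pos_iff.1 (by omega)
  have hrι := card_le_finrank hF hι5 hM hR hD hg hgN
  have hsq : ∀ l : F, l * l ∈ F₀ → l ∈ F₀ := fun l => mem_of_sq_mem hr (by omega) hfin
  obtain ⟨e1, e1', h11, -, -⟩ := exists_hyp_rat hf hF [] (by simp; omega)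
  obtain ⟨e2, e2', h22, he2, he2'⟩ := exists_hyp_rat hf hF [e1, e1'] (by simp; omega)
  have p1 := he2 e1 (by simp)
  have p2 := he2 e1' (by simp)
  have p3 := he2' e1 (by simp)
  have p4 := he2' e1' (by simp)
  obtain ⟨x1, hx1M, hx1I, hx1R, hx1s, hx1n, hx1d, hx1f⟩ := exists_invol hF hR h11
  obtain ⟨x2, hx2M, hx2I, hx2R, hx2s, hx2n, hx2d, hx2f⟩ := exists_invol hF hR h22
  -- the two involutions commute
  have hx12 : ∀ y : ι → F, (x1 : Matrix ι ι F) *ᵥ ((x2 : Matrix ι ι F) *ᵥ y) =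
      (x1 : Matrix ι ι F) *ᵥ y + ((x2 : Matrix ι ι F) *ᵥ y - y) := by
    intro y
    obtain ⟨a, b, hab⟩ := hx2d y
    rw [hab, Matrix.mulVec_add, Matrix.mulVec_add, Matrix.mulVec_smul, Matrix.mulVec_smul,
      hx1f _ (f_symm_zero hf p1) (f_symm_zero hf p2), hx1f _ (f_symm_zero hf p3) (f_symm_zero hf p4)]
    abel
  have hx21 : ∀ y : ι → F, (x2 : Matrix ι ι F) *ᵥ ((x1 : Matrix ι ι F) *ᵥ y) =
      (x1 : Matrix ι ι F) *ᵥ y + ((x2 : Matrix ι ι F) *ᵥ y - y) := by
    intro y
    obtain ⟨a, b, hab⟩ := hx1d y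
    rw [hab, Matrix.mulVec_add, Matrix.mulVec_add, Matrix.mulVec_smul, Matrix.mulVec_smul, hx2f _ p1 p3,
      hx2f _ p2 p4]
    abel
  have hcomm : x1 * x2 = x2 * x1 := gl_ext fun y => by rw [gl_mul_mulVec, gl_mul_mulVec, hx12, hx21]
  set y0 := x1 * x2 with hy0
  have hy0s : y0 * y0 = 1 := by
    calc y0 * y0 = x1 * x2 * (x2 * x1) := by rw [hy0, ← hcomm]
      _ = x1 * (x2 * x2) * x1 := by group
      _ = 1 := by rw [hx2s, mul_one, hx1s]
  have hy0M : y0 ∈ M := M.mul_mem hx1M hx2M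
  have hy0R : RatM F₀ y0 := hx1R.mul hx2R
  -- not conjugate
  have hnc : ∀ b : GL ι F, y0 * b ≠ b * x1 := by
    intro b hb
    set R1 := LinearMap.range (Matrix.mulVecLin (x1 : Matrix ι ι F) - (LinearMap.id : (ι → F) →ₗ[F] (ι → F))) with hR1
    set R0 := LinearMap.range (Matrix.mulVecLin (y0 : Matrix ι ι F) - (LinearMap.id : (ι → F) →ₗ[F] (ι → F))) with hR0
    have hbinj : Function.Injective (Matrix.mulVecLin (b : Matrix ι ι F)) := gl_mulVec_injective b
    have hle : Module.finrank F R0 ≤ Module.finrank F R1 := by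
      rw [(Submodule.equivMapOfInjective _ hbinj R1).finrank_eq]
      apply Submodule.finrank_mono
      rintro _ ⟨y, rfl⟩
      rw [rangeSub]
      refine ⟨(x1 : Matrix ι ι F) *ᵥ (((b⁻¹ : GL ι F) : Matrix ι ι F) *ᵥ y) - ((b⁻¹ : GL ι F) : Matrix ι ι F) *ᵥ y,
        ⟨_, rfl⟩, ?_⟩
      change (b : Matrix ι ι F) *ᵥ _ = _
      rw [Matrix.mulVec_sub, ← gl_mul_mulVec b x1, ← hb, gl_mul_mulVec, gl_mulVec_inv]
    have hlt : R1 < R0 := by
      rw [SetLike.lt_iff_le_and_exists]
      constructor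
      · rintro _ ⟨y, rfl⟩
        rw [rangeSub]
        set y' := y - f y (emb F₀ e2') • emb F₀ e2 + f y (emb F₀ e2) • emb F₀ e2' with hy'
        have q1 : f y' (emb F₀ e2) = 0 := by
          rw [hy', add_left hf, sub_left hf, smul_left hf, smul_left hf, self hf, skew hf (emb F₀ e2'), h22]; ring
        have q2 : f y' (emb F₀ e2') = 0 := by
          rw [hy', add_left hf, sub_left hf, smul_left hf, smul_left hf, self hf, h22]; ring
        have q3 : (x1 : Matrix ι ι F) *ᵥ y' - y' = (x1 : Matrix ι ι F) *ᵥ y - y := by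
          rw [hy', Matrix.mulVec_add, Matrix.mulVec_sub, Matrix.mulVec_smul, Matrix.mulVec_smul,
            hx1f _ (f_symm_zero hf p1) (f_symm_zero hf p2), hx1f _ (f_symm_zero hf p3) (f_symm_zero hf p4)]
          abel
        refine ⟨y', ?_⟩
        rw [rangeSub, hy0, gl_mul_mulVec, hx2f _ q1 q2, q3]
      · obtain ⟨y, hy⟩ : ∃ y : ι → F, (x2 : Matrix ι ι F) *ᵥ y ≠ y := by
          by_contra hcon
          push Not at hcon
          exact hx2n (gl_ext fun y => by rw [hcon, Units.val_one, Matrix.one_mulVec])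
        set y' := y - f y (emb F₀ e1') • emb F₀ e1 + f y (emb F₀ e1) • emb F₀ e1' with hy'
        have q1 : f y' (emb F₀ e1) = 0 := by
          rw [hy', add_left hf, sub_left hf, smul_left hf, smul_left hf, self hf, skew hf (emb F₀ e1'), h11]; ring
        have q2 : f y' (emb F₀ e1') = 0 := by
          rw [hy', add_left hf, sub_left hf, smul_left hf, smul_left hf, self hf, h11]; ring
        have q3 : (x2 : Matrix ι ι F) *ᵥ y' - y' = (x2 : Matrix ι ι F) *ᵥ y - y := by
          rw [hy', Matrix.mulVec_add, Matrix.mulVec_sub, Matrix.mulVec_smul, Matrix.mulVec_smul, hx2f _ p1 p3,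
            hx2f _ p2 p4]
          abel
        have hmem : (x2 : Matrix ι ι F) *ᵥ y - y ∈ R0 := by
          refine ⟨y', ?_⟩
          rw [rangeSub, hcomm, gl_mul_mulVec, hx1f _ q1 q2, q3]
        refine ⟨_, hmem, ?_⟩
        rintro ⟨t, ht⟩
        rw [rangeSub] at ht
        obtain ⟨a, b', hab⟩ := hx1d t
        obtain ⟨c, d, hcd⟩ := hx2d y
        rw [hab, hcd] at ht
        have ht' : a • emb F₀ e1 + b' • emb F₀ e1' = c • emb F₀ e2 + d • emb F₀ e2' := by
          have := ht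
          rw [add_assoc, add_sub_cancel_left, add_assoc, add_sub_cancel_left] at this
          exact this
        have s1 := congrArg (fun v => f v (emb F₀ e1)) ht'
        have s2 := congrArg (fun v => f v (emb F₀ e1')) ht'
        simp only [add_left hf, smul_left hf, self hf, h11, f_symm_zero hf p1, f_symm_zero hf p2, f_symm_zero hf p3,
          f_symm_zero hf p4, skew hf (emb F₀ e1') (emb F₀ e1)] at s1 s2
        have hb0 : b' = 0 := by linear_combination -s1
        have ha0 : a = 0 := by linear_combination s2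
        apply hy
        rw [hcd, add_assoc, ← ht', ha0, hb0]
        simp
    have := Submodule.finrank_lt_finrank_of_lt hlt
    omega
  -- the dihedral group
  set y1 := g * y0 * g⁻¹ with hy1
  have hy1s : y1 * y1 = 1 := by
    rw [hy1]
    have : g * y0 * g⁻¹ * (g * y0 * g⁻¹) = g * (y0 * y0) * g⁻¹ := by group
    rw [this, hy0s]; group
  have hy1M : y1 ∈ M := M.mul_mem (M.mul_mem hg hy0M) (M.inv_mem hg)
  set n := orderOf (x1 * y1) with hn
  haveI : Finite (GL ι F) := inferInstance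
  have hn0 : 0 < n := orderOf_pos _
  have hpow : (x1 * y1) ^ n = 1 := pow_orderOf_eq_one _
  rcases Nat.even_or_odd' n with ⟨k, hk | hk⟩
  swap
  · rw [hk] at hpow
    have h1 := conj_of_odd hx1s hy1s hpow
    set d := (x1 * y1) ^ k
    apply hnc (g⁻¹ * d)
    have h2 : y0 = g⁻¹ * (d * x1 * d⁻¹) * g := by rw [h1, hy1]; group
    rw [h2]; group
  · rw [hk] at hpow
    obtain ⟨hzx, hzy⟩ := comm_of_even hx1s hy1s hpow
    set z := (x1 * y1) ^ k with hz
    have hk0 : k ≠ 0 := by omega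
    have hz1 : z ≠ 1 := by
      intro h
      have := orderOf_dvd_of_pow_eq_one h
      rw [← hn] at this
      have := Nat.le_of_dvd (by omega) this
      omega
    have hzs : z * z = 1 := by rw [hz, ← pow_add, ← two_mul]; exact hpow
    have hzM : z ∈ M := M.pow_mem (M.mul_mem hx1M hy1M) k
    -- `z` normalises the rational structure
    have hzN : NormV F₀ z := by
      by_contra hcon
      apply hx1n
      refine eq_one_of_fix hF hι5 hM hR hD hzM hcon hx1I (v₀ := e2) ?_
        (hx1f _ (f_symm_zero hf p1) (f_symm_zero hf p2)) ?_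
      · rintro rfl; rw [emb_zero, zero_left hf] at h22; exact zero_ne_one h22
      · have : z⁻¹ * x1 * z = x1 := by rw [mul_assoc, ← hzx]; group
        rw [this]; exact hx1R
    have hz' : (g⁻¹ * z * g) * y0 = y0 * (g⁻¹ * z * g) := by
      have h1 : y0 = g⁻¹ * y1 * g := by rw [hy1]; group
      rw [h1]
      have h2 : g⁻¹ * z * g * (g⁻¹ * y1 * g) = g⁻¹ * (z * y1) * g := by group
      have h3 : g⁻¹ * y1 * g * (g⁻¹ * z * g) = g⁻¹ * (y1 * z) * g := by group
      rw [h2, h3, hzy]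
    have hz'M : g⁻¹ * z * g ∈ M := M.mul_mem (M.mul_mem (M.inv_mem hg) hzM) hg
    have hy0n : y0 ≠ 1 := by
      intro h
      have h1 : x2 = x1⁻¹ := (eq_inv_of_mul_eq_one_right h)
      have h2 : x2 = x1 := by rw [h1]; exact inv_eq_of_mul_eq_one_left hx1s
      apply hx2n
      apply gl_ext
      intro y
      rw [Units.val_one, Matrix.one_mulVec]
      -- `x2 y - y` lies in both planes
      obtain ⟨c, d, hcd⟩ := hx2d y
      have h3 := hx2d y
      obtain ⟨a, b, hab⟩ := hx1d y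
      rw [h2, hab] at hcd
      have ht' : a • emb F₀ e1 + b • emb F₀ e1' = c • emb F₀ e2 + d • emb F₀ e2' := by
        rw [add_assoc, add_assoc] at hcd
        exact add_left_cancel hcd
      have s1 := congrArg (fun v => f v (emb F₀ e1)) ht'
      have s2 := congrArg (fun v => f v (emb F₀ e1')) ht'
      simp only [add_left hf, smul_left hf, self hf, h11, f_symm_zero hf p1, f_symm_zero hf p2, f_symm_zero hf p3,
        f_symm_zero hf p4, skew hf (emb F₀ e1') (emb F₀ e1)] at s1 s2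
      have hb0 : b = 0 := by linear_combination -s1
      have ha0 : a = 0 := by linear_combination s2
      rw [h2, hab, ha0, hb0]; simp
    have hz'N : NormV F₀ (g⁻¹ * z * g) := by
      by_contra hcon
      obtain ⟨v, hv, hvp⟩ := exists_perp_rat hf hF [e1, e1', e2, e2'] [] (by simp; omega)
      have hv0 : v ≠ 0 := by rintro rfl; exact hv (Submodule.zero_mem _)
      apply hy0n
      refine eq_one_of_fix hF hι5 hM hR hD hz'M hcon (hM hy0M) (v₀ := v) hv0 ?_ ?_
      · rw [hy0, gl_mul_mulVec, hx2f _ (hvp e2 (by simp)) (hvp e2' (by simp)),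
          hx1f _ (hvp e1 (by simp)) (hvp e1' (by simp))]
      · have : (g⁻¹ * z * g)⁻¹ * y0 * (g⁻¹ * z * g) = y0 := by
          rw [mul_assoc, ← hz', ← mul_assoc, inv_mul_cancel, one_mul]
        rw [this]; exact hy0R
    have hzR := normV_ratM hsq hzN hzs
    have hz's : (g⁻¹ * z * g) * (g⁻¹ * z * g) = 1 := by
      have : (g⁻¹ * z * g) * (g⁻¹ * z * g) = g⁻¹ * (z * z) * g := by group
      rw [this, hzs]; group
    have hz'R := normV_ratM hsq hz'N hz's
    -- a common fixed vector of `x1`, `y1`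
    obtain ⟨v, hv0, hv1, hv2⟩ : ∃ v : ι → F, v ≠ 0 ∧ (x1 : Matrix ι ι F) *ᵥ v = v ∧ (y1 : Matrix ι ι F) *ᵥ v = v := by
      set l : List (ι → F) := [emb F₀ e1, emb F₀ e1', (g : Matrix ι ι F) *ᵥ emb F₀ e1,
        (g : Matrix ι ι F) *ᵥ emb F₀ e1', (g : Matrix ι ι F) *ᵥ emb F₀ e2, (g : Matrix ι ι F) *ᵥ emb F₀ e2'] with hl
      have h1 := finrank_span_list_le (K := F) l
      have h2 : perp hf (Submodule.span F {x | x ∈ l}) ≠ ⊥ := by
        intro h
        have h3 := finrank_perp hf (Submodule.span F {x | x ∈ l})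
        rw [h, finrank_bot] at h3
        have : l.length = 6 := by rw [hl]; rfl
        omega
      obtain ⟨v, hvp, hv0⟩ := Submodule.exists_mem_ne_zero_of_ne_bot h2
      rw [mem_perp'] at hvp
      have hvl : ∀ w ∈ l, f v w = 0 := fun w hw => hvp w (Submodule.subset_span hw)
      refine ⟨v, hv0, hx1f v (hvl _ (by simp [hl])) (hvl _ (by simp [hl])), ?_⟩
      have hgv : ∀ w : ι → F, f v ((g : Matrix ι ι F) *ᵥ w) = 0 → f (((g⁻¹ : GL ι F) : Matrix ι ι F) *ᵥ v) w = 0 := by
        intro w hw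
        have := mem_isoGL.1 (hM hg) (((g⁻¹ : GL ι F) : Matrix ι ι F) *ᵥ v) w
        rw [gl_mulVec_inv, hw] at this
        exact this.symm
      rw [hy1, hy0, gl_mul_mulVec, gl_mul_mulVec, gl_mul_mulVec,
        hx2f _ (hgv _ (hvl _ (by simp [hl]))) (hgv _ (hvl _ (by simp [hl]))),
        hx1f _ (hgv _ (hvl _ (by simp [hl]))) (hgv _ (hvl _ (by simp [hl]))), gl_mulVec_inv]
    have hzv : (z : Matrix ι ι F) *ᵥ v = v := by
      rw [hz]
      have hd : ((x1 * y1 : GL ι F) : Matrix ι ι F) *ᵥ v = v := by rw [gl_mul_mulVec, hv2, hv1]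
      have : ∀ j : ℕ, (((x1 * y1) ^ j : GL ι F) : Matrix ι ι F) *ᵥ v = v := by
        intro j
        induction j with
        | zero => rw [pow_zero, Units.val_one, Matrix.one_mulVec]
        | succ j ih => rw [pow_succ, gl_mul_mulVec, hd, ih]
      exact this k
    -- a rational fixed vector of `z`
    obtain ⟨w, hw0, hzw⟩ : ∃ w : ι → F₀, w ≠ 0 ∧ (z : Matrix ι ι F) *ᵥ emb F₀ w = emb F₀ w := by
      by_contra hcon
      push Not at hcon
      have hneg : ∀ y : ι → F₀, (z : Matrix ι ι F) *ᵥ emb F₀ y = - emb F₀ y := by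
        intro y
        obtain ⟨y₁, hy₁⟩ := hzR y
        by_contra hne2
        have h1 : y₁ + y ≠ 0 := by
          intro h
          apply hne2
          rw [hy₁, eq_neg_of_add_eq_zero_left h, emb_neg]
        apply hcon _ h1
        rw [emb_add, Matrix.mulVec_add, ← hy₁, ← gl_mul_mulVec, hzs, Units.val_one, Matrix.one_mulVec, add_comm]
      have hneg' : ∀ y : ι → F, (z : Matrix ι ι F) *ᵥ y = - y := by
        have : z = -1 := by
          apply Units.ext
          apply Matrix.ext_of_mulVec_single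
          intro i
          have := hneg (Pi.single i 1)
          rw [emb_single] at this
          rw [this, Units.val_neg, Units.val_one, Matrix.neg_mulVec, Matrix.one_mulVec]
        intro y
        rw [this, Units.val_neg, Units.val_one, Matrix.neg_mulVec, Matrix.one_mulVec]
      have h2 := hneg' v
      rw [hzv] at h2
      -- characteristic two
      obtain ⟨i, hi⟩ := Function.ne_iff.1 hv0
      have h3 := congrFun h2 i
      rw [Pi.neg_apply] at h3
      have h4 : (2 : F) * v i = 0 := by linear_combination h3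
      have h5 : (2 : F) = 0 := (mul_eq_zero.1 h4).resolve_right hi
      apply hz1
      apply gl_ext
      intro y
      rw [hneg', Units.val_one, Matrix.one_mulVec]
      ext j
      rw [Pi.neg_apply]
      linear_combination -(y j) * h5
    exact hz1 (eq_one_of_fix hF hι5 hM hR hD hg hgN (hM hzM) hw0 hzw hz'R)


end Cfsg.Agent.SmallDim.SubSp
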